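import Mathlib.RingTheory.Spectrum.Prime.FreeLocus
import Mathlib.RingTheory.Flat.Rank
import Mathlib.RingTheory.LocalRing.Module
import Mathlib.RingTheory.IsTensorProduct
import Mathlib.RingTheory.Artinian.Ring

/-!
# Ranks in towers
-/

noncomputable section

open scoped TensorProduct

namespace H20Quot

universe u v w

/-- a flat finite module over a semilocal ring of constant rank at maximal ideals -/
theorem free_of_rankAtStalk_eq {S : Type u} [CommRing S] [Finite (MaximalSpectrum S)]
    {M : Type v} [AddCommGroup M] [Module S M] [Module.Finite S M] [Module.Flat S M] (n : ℕ)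
    (h : ∀ P : PrimeSpectrum S, Module.rankAtStalk M P = n) : Module.Free S M := by
  refine Module.free_of_flat_of_finrank_eq S M n fun P => ?_
  have := P.isMaximal
  let := Ideal.Quotient.field P.1
  obtain ⟨x⟩ : Nonempty (PrimeSpectrum (S ⧸ P.1)) := inferInstance
  have h1 := Module.rankAtStalk_baseChange (R := S) (M := M) (S := S ⧸ P.1) x
  rw [Module.rankAtStalk_eq_finrank_of_free, h] at h1
  simpa using h1

attribute [local instance] Algebra.TensorProduct.rightAlgebra

/-- If `M` has constant rank `n` over `B` above `q`, its rank at `q` over `R` is `n` times the rank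
of `B`. -/
theorem rankAtStalk_tower (R : Type u) (B : Type v) (M : Type w) [CommRing R] [CommRing B]
    [Algebra R B] [AddCommGroup M] [Module R M] [Module B M] [IsScalarTower R B M]
    [Module.Finite R B] [Module.Flat R B] [Module.Finite B M] [Module.Flat B M]
    (n : ℕ) (q : PrimeSpectrum R)
    (h : ∀ Q : PrimeSpectrum B, Q.comap (algebraMap R B) = q → Module.rankAtStalk M Q = n) :
    Module.rankAtStalk M q = n * Module.rankAtStalk B q := by
  have : Module.Finite R M := Module.Finite.trans B M
  have : Module.Flat R M := Module.Flat.trans R B M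
  rw [Module.rankAtStalk_eq, Module.rankAtStalk_eq]
  let K := q.asIdeal.ResidueField
  let S := K ⊗[R] B
  show Module.finrank K (K ⊗[R] M) = n * Module.finrank K S
  rw [← (Algebra.IsPushout.cancelBaseChange R K B S M).finrank_eq]
  have : IsArtinianRing S := IsArtinianRing.of_finite K S
  rcases subsingleton_or_nontrivial S with hS | hS
  · have : Subsingleton (S ⊗[B] M) := Module.subsingleton S _
    rw [Module.finrank_zero_of_subsingleton, Module.finrank_zero_of_subsingleton, mul_zero]
  have hrk : ∀ P : PrimeSpectrum S, Module.rankAtStalk (S ⊗[B] M) P = n := by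
    intro P
    rw [Module.rankAtStalk_baseChange]
    apply h
    rw [← PrimeSpectrum.comap_comp_apply, ← IsScalarTower.algebraMap_eq R B S,
      IsScalarTower.algebraMap_eq R K S, PrimeSpectrum.comap_comp_apply]
    refine PrimeSpectrum.ext ?_
    rw [PrimeSpectrum.comap_asIdeal,
      Ideal.eq_bot_of_prime (PrimeSpectrum.comap (algebraMap K S) P).asIdeal,
      ← RingHom.ker_eq_comap_bot]
    exact Ideal.ker_algebraMap_residueField _
  have := free_of_rankAtStalk_eq n hrk
  obtain ⟨P⟩ : Nonempty (PrimeSpectrum S) := inferInstance
  have hn : Module.finrank S (S ⊗[B] M) = n := by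
    rw [← hrk P, Module.rankAtStalk_eq_finrank_of_free]
    rfl
  rw [← Module.finrank_mul_finrank K S (S ⊗[B] M), hn, mul_comm]

end H20Quot
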