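import Groth.Agent.H20Quot.Integral
import Groth.Agent.H20Quot.Rank
import Mathlib.RingTheory.Flat.FaithfullyFlat.Algebra
import Mathlib.RingTheory.TensorProduct.Maps

/-!
# Hopf–Galois extensions for finite projective commutative Hopf algebras

`ρ : A → A ⊗ C` a coaction, `B` its invariants; if every `1 ⊗ c` is in the image of
`a ⊗ b ↦ (a ⊗ 1) ρ b` then `A` is finite projective and faithfully flat over `B` and
`A ⊗_B A ≅ A ⊗ C`.
-/

noncomputable section

open scoped TensorProduct
open Coalgebra HopfAlgebra

namespace H20Quot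

universe u v w

variable {R : Type u} [CommRing R] {A : Type v} [CommRing A] [Algebra R A]
variable {C : Type w} [CommRing C] [HopfAlgebra R C]

/-- invariants of a coaction -/
abbrev inv (ρ : A →ₐ[R] A ⊗[R] C) : Subalgebra R A :=
  AlgHom.equalizer ρ (Algebra.TensorProduct.includeLeft : A →ₐ[R] A ⊗[R] C)

/-- `ρ` is a right coaction with bijective-to-be Galois map -/
structure IsGalois (ρ : A →ₐ[R] A ⊗[R] C) : Prop where
  coassoc : TensorProduct.assoc R A C C ∘ₗ ρ.toLinearMap.rTensor C ∘ₗ ρ.toLinearMap =
    Coalgebra.comul.lTensor A ∘ₗ ρ.toLinearMap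
  counit : ∀ a, TensorProduct.rid R A (Coalgebra.counit.lTensor A (ρ a)) = a
  surj : ∀ c : C, ∃ z : A ⊗[R] A,
    Algebra.TensorProduct.productMap Algebra.TensorProduct.includeLeft ρ z = 1 ⊗ₜ[R] c

/-- evaluation of the right factor -/
def slice (t : C →ₗ[R] R) : A ⊗[R] C →ₗ[R] A :=
  (TensorProduct.rid R A).toLinearMap ∘ₗ t.lTensor A

@[simp] lemma slice_tmul (t : C →ₗ[R] R) (a : A) (c : C) : slice t (a ⊗ₜ[R] c) = t c • a := by
  simp [slice]

lemma slice_includeLeft_mul (t : C →ₗ[R] R) (p : A) (w : A ⊗[R] C) :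
    slice t (p ⊗ₜ[R] (1 : C) * w) = p * slice t w := by
  induction w using TensorProduct.induction_on with
  | zero => simp
  | add x y hx hy => simp [mul_add, hx, hy]
  | tmul a c => simp

namespace IsGalois

variable {ρ : A →ₐ[R] A ⊗[R] C} (hρ : IsGalois ρ)
include hρ

lemma slice_rho_mem {t : C →ₗ[R] R} (ht : ∀ c, rTr t c = t c • (1 : C)) (a : A) :
    slice t (ρ a) ∈ inv ρ := by
  rw [AlgHom.mem_equalizer, Algebra.TensorProduct.includeLeft_apply]
  let s : A ⊗[R] (C ⊗[R] C) →ₗ[R] A ⊗[R] C :=
    ((TensorProduct.rid R C).toLinearMap ∘ₗ t.lTensor C).lTensor A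
  have h1 : ∀ z : A ⊗[R] C, ρ (slice t z) =
      s (TensorProduct.assoc R A C C (ρ.toLinearMap.rTensor C z)) := by
    intro z
    induction z using TensorProduct.induction_on with
    | zero => simp
    | add x y hx hy => simp [hx, hy]
    | tmul x c =>
      simp only [slice_tmul, map_smul, LinearMap.rTensor_tmul, AlgHom.toLinearMap_apply]
      generalize ρ x = w
      induction w using TensorProduct.induction_on with
      | zero => simp
      | add x y hx hy => simp [TensorProduct.add_tmul, hx, hy]
      | tmul u v => simp [s, TensorProduct.smul_tmul']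
  have h2 : ∀ z : A ⊗[R] C, s (Coalgebra.comul.lTensor A z) = slice t z ⊗ₜ[R] (1 : C) := by
    intro z
    induction z using TensorProduct.induction_on with
    | zero => simp
    | add x y hx hy => simp [hx, hy, TensorProduct.add_tmul]
    | tmul x c =>
      have hc : (TensorProduct.rid R C) (t.lTensor C (comul c)) = t c • (1 : C) := ht c
      simp [s, hc, TensorProduct.smul_tmul', TensorProduct.tmul_smul]
  have h3 := LinearMap.congr_fun hρ.coassoc a
  simp only [LinearMap.comp_apply, LinearEquiv.coe_coe, AlgHom.toLinearMap_apply] at h3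
  rw [h1, h3, h2]

/-- the averaging map, as a map to the invariants, linear over them -/
def avg {t : C →ₗ[R] R} (ht : ∀ c, rTr t c = t c • (1 : C)) : A →ₗ[inv ρ] inv ρ where
  toFun a := ⟨slice t (ρ a), slice_rho_mem hρ ht a⟩
  map_add' a b := Subtype.ext (by simp)
  map_smul' b a := Subtype.ext (by
    have hb : ρ (b : A) = (b : A) ⊗ₜ[R] (1 : C) := b.2
    simp [Subalgebra.smul_def, hb, slice_includeLeft_mul])

/-- A dual basis of `A` over the invariants, factoring through the Galois map. -/
theorem exists_dual [Module.Finite R C] [Module.Projective R C] :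
    ∃ (κ : Type (max v w)) (_ : Fintype κ) (x : κ → A) (f : κ → A →ₗ[inv ρ] inv ρ)
      (L : κ → A ⊗[R] C →ₗ[R] A),
      (∀ a, ∑ k, f k a • x k = a) ∧ ∀ k p a, L k (p ⊗ₜ[R] (1 : C) * ρ a) = p * (f k a : A) := by
  classical
  obtain ⟨n, e, φ, hφ⟩ := exists_dual_basis (R := R) (M := C)
  choose z hz using fun i => hρ.surj (antipode R (e i))
  choose S hS using fun i => TensorProduct.exists_finset (R := R) (z i)
  let t : Fin n → C →ₗ[R] R := fun i => T e φ (φ i)
  have ht : ∀ i c, rTr (t i) c = t i c • (1 : C) := fun i => rTr_T e φ hφ (φ i)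
  refine ⟨ULift.{max v w} (Σ i : Fin n, ↥(S i)), inferInstance,
    fun k => (k.down.2 : A × A).1,
    fun k => (avg hρ (ht k.down.1)) ∘ₗ LinearMap.mulLeft (inv ρ) (k.down.2 : A × A).2,
    fun k => slice (t k.down.1) ∘ₗ LinearMap.mulLeft R (ρ (k.down.2 : A × A).2),
    fun a => ?_, fun k p a => ?_⟩
  · rw [← (Equiv.ulift (α := Σ i : Fin n, ↥(S i))).symm.sum_comp, Fintype.sum_sigma]
    have hi : ∀ i, ∑ j : ↥(S i), (j : A × A).1 * slice (t i) (ρ ((j : A × A).2 * a)) =
        slice (t i) ((1 : A) ⊗ₜ[R] antipode R (e i) * ρ a) := by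
      intro i
      rw [← hz i, hS i, map_sum, Finset.sum_mul, map_sum,
        Finset.sum_coe_sort (S i) (fun j => j.1 * slice (t i) (ρ (j.2 * a)))]
      refine Finset.sum_congr rfl fun j _ => ?_
      rw [map_mul, ← slice_includeLeft_mul]
      simp [mul_assoc]
    have hcomm : ∀ i, ∑ j : ↥(S i),
        ((avg hρ (ht i) ((j : A × A).2 * a) : inv ρ)) • (j : A × A).1 =
        slice (t i) ((1 : A) ⊗ₜ[R] antipode R (e i) * ρ a) := by
      intro i
      rw [← hi i]
      refine Finset.sum_congr rfl fun j _ => ?_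
      rw [Subalgebra.smul_def, smul_eq_mul, mul_comm]
      rfl
    refine (Finset.sum_congr rfl fun i _ => hcomm i).trans ?_
    conv_rhs => rw [← hρ.counit a]
    generalize ρ a = w
    induction w using TensorProduct.induction_on with
    | zero => simp
    | add x y hx hy => simp [mul_add, Finset.sum_add_distrib, hx, hy]
    | tmul x c =>
      simp only [Algebra.TensorProduct.tmul_mul_tmul, one_mul, slice_tmul, ← Finset.sum_smul]
      simp [t, sum_T_eq_counit e φ hφ]
  · have : ρ (k.down.2 : A × A).2 * (p ⊗ₜ[R] (1 : C) * ρ a) =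
        p ⊗ₜ[R] (1 : C) * ρ ((k.down.2 : A × A).2 * a) := by rw [map_mul]; ring
    simp only [LinearMap.comp_apply, LinearMap.mulLeft_apply, this, slice_includeLeft_mul]
    rfl

theorem finite [Module.Finite R C] [Module.Projective R C] : Module.Finite (inv ρ) A := by
  obtain ⟨κ, _, x, f, L, hx, -⟩ := exists_dual hρ
  refine Module.Finite.of_surjective (Fintype.linearCombination (inv ρ) x) fun a =>
    ⟨fun k => f k a, ?_⟩
  simpa [Fintype.linearCombination_apply] using hx a

theorem projective [Module.Finite R C] [Module.Projective R C] : Module.Projective (inv ρ) A := by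
  obtain ⟨κ, _, x, f, L, hx, -⟩ := exists_dual hρ
  refine Module.Projective.of_split (LinearMap.pi f) (Fintype.linearCombination (inv ρ) x) ?_
  ext a
  simpa [Fintype.linearCombination_apply] using hx a

theorem faithfullyFlat [Module.Finite R C] [Module.Projective R C] :
    Module.FaithfullyFlat (inv ρ) A := by
  have := finite hρ
  have := projective hρ
  exact Module.FaithfullyFlat.of_comap_surjective
    (PrimeSpectrum.comap_surjective_iff_injective_of_finite.2 Subtype.val_injective)

omit hρ in
/-- the coaction is linear over the invariants -/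
def rhoInv (ρ : A →ₐ[R] A ⊗[R] C) : A →ₐ[inv ρ] A ⊗[R] C :=
  { ρ.toRingHom with
    commutes' := fun b => b.2 }

omit hρ in
/-- the Galois map over the invariants -/
def galoisMap (ρ : A →ₐ[R] A ⊗[R] C) : A ⊗[inv ρ] A →ₐ[A] A ⊗[R] C :=
  Algebra.TensorProduct.lift (Algebra.TensorProduct.includeLeft : A →ₐ[A] A ⊗[R] C) (rhoInv ρ)
    (fun _ _ => Commute.all _ _)

omit hρ in
@[simp] lemma galoisMap_tmul (p a : A) :
    galoisMap ρ (p ⊗ₜ a) = p ⊗ₜ[R] (1 : C) * ρ a := rfl

theorem galoisMap_bijective [Module.Finite R C] [Module.Projective R C] :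
    Function.Bijective (galoisMap ρ) := by
  obtain ⟨κ, _, x, f, L, hx, hL⟩ := exists_dual hρ
  constructor
  · have key : ∀ z : A ⊗[inv ρ] A, z = ∑ k, L k (galoisMap ρ z) ⊗ₜ[inv ρ] x k := by
      intro z
      induction z using TensorProduct.induction_on with
      | zero => simp
      | add u v hu hv =>
        simp only [map_add, TensorProduct.add_tmul, Finset.sum_add_distrib, ← hu, ← hv]
      | tmul p a =>
        conv_lhs => rw [← hx a, TensorProduct.tmul_sum]
        refine Finset.sum_congr rfl fun k _ => ?_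
        rw [galoisMap_tmul, hL, TensorProduct.tmul_smul, TensorProduct.smul_tmul',
          Subalgebra.smul_def, smul_eq_mul, mul_comm]
    intro u v huv
    rw [key u, key v, huv]
  · intro w
    induction w using TensorProduct.induction_on with
    | zero => exact ⟨0, map_zero _⟩
    | add u v hu hv =>
      obtain ⟨a, rfl⟩ := hu
      obtain ⟨b, rfl⟩ := hv
      exact ⟨a + b, map_add _ _ _⟩
    | tmul p c =>
      obtain ⟨z, hz⟩ := hρ.surj c
      have hr : (1 : A) ⊗ₜ[R] c ∈ Set.range (galoisMap ρ) := by
        rw [← hz]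
        clear hz
        induction z using TensorProduct.induction_on with
        | zero => exact ⟨0, by simp⟩
        | add u v hu hv =>
          obtain ⟨a, ha⟩ := hu
          obtain ⟨b, hb⟩ := hv
          exact ⟨a + b, by rw [map_add, map_add, ha, hb]⟩
        | tmul u v => exact ⟨u ⊗ₜ v, by simp⟩
      obtain ⟨y, hy⟩ := hr
      refine ⟨p • y, ?_⟩
      rw [map_smul, hy]
      simp [TensorProduct.smul_tmul']

/-- `A` has rank `rank C` over the invariants. -/
theorem rankAtStalk_eq [Module.Finite R C] [Module.Projective R C] (Q : PrimeSpectrum (inv ρ)) :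
    Module.rankAtStalk A Q = Module.rankAtStalk C (Q.comap (algebraMap R (inv ρ))) := by
  have := finite hρ
  have := projective hρ
  obtain ⟨P, rfl⟩ := PrimeSpectrum.comap_surjective_iff_injective_of_finite.2
    (Subtype.val_injective : Function.Injective (algebraMap (inv ρ) A)) Q
  rw [← Module.rankAtStalk_baseChange, ← PrimeSpectrum.comap_comp_apply,
    ← IsScalarTower.algebraMap_eq, ← Module.rankAtStalk_baseChange]
  exact congrFun (Module.rankAtStalk_eq_of_equiv
    (LinearEquiv.ofBijective (galoisMap ρ).toLinearMap (galoisMap_bijective hρ))) P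

/-- the invariants are a direct summand of `A` -/
theorem exists_retraction [Module.Finite R C] [Module.Projective R C] :
    ∃ θ : A →ₗ[inv ρ] inv ρ, θ 1 = 1 := by
  have := faithfullyFlat hρ
  obtain ⟨κ, _, x, f, L, hx, -⟩ := exists_dual hρ
  let J : Ideal (inv ρ) := LinearMap.range (LinearMap.applyₗ (R := inv ρ) (1 : A) :
    (A →ₗ[inv ρ] inv ρ) →ₗ[inv ρ] inv ρ)
  suffices h : J = ⊤ by
    obtain ⟨θ, hθ⟩ := (h.symm ▸ Submodule.mem_top : (1 : inv ρ) ∈ J)
    exact ⟨θ, hθ⟩
  by_contra hJ
  obtain ⟨m, hm, hJm⟩ := Ideal.exists_le_maximal J hJ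
  refine Module.FaithfullyFlat.submodule_ne_top (M := A) hm (eq_top_iff.2 fun a _ => ?_)
  have : a = ∑ k, f k 1 • (a * x k) := by
    simp only [← mul_smul_comm, ← Finset.mul_sum, hx, mul_one]
  rw [this]
  exact Submodule.sum_mem _ fun k _ =>
    Submodule.smul_mem_smul (hJm ⟨f k, rfl⟩) Submodule.mem_top

theorem finite_inv [Module.Finite R C] [Module.Projective R C] [Module.Finite R A] :
    Module.Finite R (inv ρ) := by
  obtain ⟨θ, hθ⟩ := exists_retraction hρ
  refine Module.Finite.of_surjective (θ.restrictScalars R) fun b => ⟨b, ?_⟩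
  have h : θ (b • (1 : A)) = b • θ 1 := map_smul θ b 1
  simpa [hθ, Subalgebra.smul_def] using h

theorem projective_inv [Module.Finite R C] [Module.Projective R C] [Module.Projective R A] :
    Module.Projective R (inv ρ) := by
  obtain ⟨θ, hθ⟩ := exists_retraction hρ
  refine Module.Projective.of_split (inv ρ).val.toLinearMap (θ.restrictScalars R) ?_
  refine LinearMap.ext fun b => ?_
  have h : θ (b • (1 : A)) = b • θ 1 := map_smul θ b 1
  simpa [hθ, Subalgebra.smul_def] using h

/-- Multiplicativity of the rank. -/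
theorem rankAtStalk_mul [Module.Finite R C] [Module.Projective R C] [Module.Finite R A]
    [Module.Projective R A] (q : PrimeSpectrum R) :
    Module.rankAtStalk A q = Module.rankAtStalk C q * Module.rankAtStalk (inv ρ) q := by
  have := finite hρ
  have := projective hρ
  have := finite_inv hρ
  have := projective_inv hρ
  refine rankAtStalk_tower R (inv ρ) A _ q fun Q hQ => ?_
  rw [rankAtStalk_eq hρ, hQ]

end IsGalois

end H20Quot
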