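import Groth.Agent.H20Quot.Galois
import Mathlib.RingTheory.Bialgebra.Hom
import Mathlib.RingTheory.HopfAlgebra.Quotient

/-!
# The coaction on a Hopf algebra defined by a closed subgroup
-/

noncomputable section

open scoped TensorProduct
open Coalgebra HopfAlgebra

namespace H20Quot

variable {R : Type*} [CommRing R] {A C : Type*} [CommRing A] [HopfAlgebra R A]
  [CommRing C] [HopfAlgebra R C]

/-- `a ↦ (id ⊗ π) Δ a` -/
abbrev rightCoaction (π : A →ₐ[R] C) : A →ₐ[R] A ⊗[R] C :=
  (Algebra.TensorProduct.map (AlgHom.id R A) π).comp (Bialgebra.comulAlgHom R A)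

lemma rightCoaction_repr {κ : Type*} (π : A →ₐ[R] C) {a : A} (r : Coalgebra.Repr R a κ) :
    rightCoaction π a = ∑ i ∈ r.index, r.left i ⊗ₜ[R] π (r.right i) := by
  simp [rightCoaction, ← r.eq, map_sum]

lemma isGalois_rightCoaction (π : A →ₐc[R] C) (hπ : Function.Surjective π) :
    IsGalois (rightCoaction (π : A →ₐ[R] C)) where
  coassoc := by
    refine LinearMap.ext fun a => ?_
    have H := congrArg (TensorProduct.map LinearMap.id
      (TensorProduct.map (π : A →ₐ[R] C).toLinearMap (π : A →ₐ[R] C).toLinearMap))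
      (Coalgebra.sum_tmul_tmul_eq (ℛ R a) (fun i => ℛ R _) (fun i => ℛ R _))
    simp only [map_sum, TensorProduct.map_tmul, LinearMap.id_apply, AlgHom.toLinearMap_apply] at H
    simp only [LinearMap.comp_apply, AlgHom.toLinearMap_apply, LinearEquiv.coe_coe,
      rightCoaction_repr _ (ℛ R a), map_sum, LinearMap.rTensor_tmul, LinearMap.lTensor_tmul]
    simp only [fun i => rightCoaction_repr (π : A →ₐ[R] C) (ℛ R ((ℛ R a).left i)),
      TensorProduct.sum_tmul, map_sum, TensorProduct.assoc_tmul]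
    refine H.trans (Finset.sum_congr rfl fun i _ => ?_)
    have hπc : comul (R := R) ((π : A →ₐ[R] C) ((ℛ R a).right i)) =
        TensorProduct.map (π : A →ₐ[R] C).toLinearMap (π : A →ₐ[R] C).toLinearMap
          (comul ((ℛ R a).right i)) := (CoalgHomClass.map_comp_comul_apply π _).symm
    rw [hπc, ← (ℛ R ((ℛ R a).right i)).eq]
    simp [map_sum, TensorProduct.tmul_sum]
  counit a := by
    have h := congrArg (TensorProduct.rid R A) (Coalgebra.sum_tmul_counit_eq (R := R) (ℛ R a))
    simp only [map_sum, TensorProduct.rid_tmul, one_smul] at h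
    conv_rhs => rw [← h]
    simp only [rightCoaction_repr _ (ℛ R a), map_sum, LinearMap.lTensor_tmul,
      TensorProduct.rid_tmul]
    refine Finset.sum_congr rfl fun i _ => ?_
    congr 1
    exact CoalgHomClass.counit_comp_apply π _
  surj c := by
    obtain ⟨a, rfl⟩ := hπ c
    refine ⟨∑ i ∈ (ℛ R a).index, antipode R ((ℛ R a).left i) ⊗ₜ[R] (ℛ R a).right i, ?_⟩
    let Φ : A ⊗[R] (A ⊗[R] A) →ₗ[R] A ⊗[R] C :=
      TensorProduct.map (LinearMap.mul' R A ∘ₗ (antipode R).rTensor A)
        (π : A →ₐ[R] C).toLinearMap ∘ₗ (TensorProduct.assoc R A A A).symm.toLinearMap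
    have hΦ : ∀ u v w, Φ (u ⊗ₜ (v ⊗ₜ w)) = (antipode R u * v) ⊗ₜ[R] π w := by
      intro u v w; simp [Φ]
    have H := congrArg Φ (Coalgebra.sum_tmul_tmul_eq (ℛ R a) (fun i => ℛ R _) (fun i => ℛ R _))
    simp only [map_sum, hΦ] at H
    calc _ = ∑ i ∈ (ℛ R a).index, ∑ b ∈ (ℛ R ((ℛ R a).right i)).index,
          (antipode R ((ℛ R a).left i) * (ℛ R ((ℛ R a).right i)).left b) ⊗ₜ[R]
            π ((ℛ R ((ℛ R a).right i)).right b) := by
          simp [map_sum, fun i => rightCoaction_repr (π : A →ₐ[R] C) (ℛ R ((ℛ R a).right i)),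
            Finset.mul_sum]
      _ = ∑ i ∈ (ℛ R a).index, (1 : A) ⊗ₜ[R] π (counit (R := R) ((ℛ R a).left i) •
            (ℛ R a).right i) := by
          rw [← H]
          refine Finset.sum_congr rfl fun i _ => ?_
          rw [← TensorProduct.sum_tmul, sum_antipode_mul_eq_smul, TensorProduct.smul_tmul,
            map_smul]
      _ = _ := by rw [← TensorProduct.tmul_sum, ← map_sum, Coalgebra.sum_counit_smul]

/-- the quotient by a Hopf ideal gives a Galois coaction -/
lemma isGalois_quotient (I : Ideal A) [I.IsHopfIdeal R] :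
    IsGalois (rightCoaction (Ideal.Quotient.mkₐ R I)) := by
  have h0 : Function.Surjective (Bialgebra.Quotient.mkBialgHom (R := R) I) :=
    Ideal.Quotient.mk_surjective
  have h1 : ((Bialgebra.Quotient.mkBialgHom (R := R) I : A →ₐc[R] A ⧸ I) : A →ₐ[R] A ⧸ I) =
      Ideal.Quotient.mkₐ R I := AlgHom.ext fun _ => rfl
  rw [← h1]
  exact isGalois_rightCoaction (R := R) (A := A) (C := A ⧸ I) _ h0

end H20Quot
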