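import Groth.Agent.H20Quot.Coaction
import Groth.Agent.H20Comod.Reynolds
import Mathlib.RingTheory.Kaehler.Basic
import Mathlib.RingTheory.Unramified.Finite
import Mathlib.RingTheory.Ideal.IdempotentFG
import Mathlib.RingTheory.Jacobson.Ideal

/-!
# Quotient by an open subgroup with connected special fibre

If the ideal of a subgroup is generated by an idempotent the quotient is unramified; if moreover
the subgroup is local, it is normal.
-/

noncomputable section

open scoped TensorProduct
open Coalgebra HopfAlgebra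

namespace H20Quot

universe u v w

variable {R : Type u} [CommRing R] {A : Type v} {C : Type w} [CommRing A] [HopfAlgebra R A]
  [CommRing C] [HopfAlgebra R C]

lemma rightCoaction_lTr (π : A →ₐc[R] C) (h : A →ₗ[R] R) (a : A) :
    rightCoaction (π : A →ₐ[R] C) (lTr h a) =
      TensorProduct.map (lTr h) LinearMap.id (rightCoaction (π : A →ₐ[R] C) a) := by
  let Φ : A ⊗[R] (A ⊗[R] A) →ₗ[R] A ⊗[R] C :=
    (TensorProduct.lid R (A ⊗[R] C)).toLinearMap ∘ₗ
      TensorProduct.map h (TensorProduct.map LinearMap.id (π : A →ₐ[R] C).toLinearMap)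
  have hΦ : ∀ u v w, Φ (u ⊗ₜ (v ⊗ₜ w)) = h u • (v ⊗ₜ[R] π w) := by
    intro u v w; simp [Φ]
  have H := congrArg Φ (Coalgebra.sum_tmul_tmul_eq (ℛ R a) (fun i => ℛ R _) (fun i => ℛ R _))
  simp only [map_sum, hΦ] at H
  rw [lTr_repr h (ℛ R a), rightCoaction_repr _ (ℛ R a), map_sum, map_sum]
  simp only [map_smul]
  simp only [fun i => rightCoaction_repr (π : A →ₐ[R] C) (ℛ R ((ℛ R a).right i)),
    fun i => lTr_repr h (ℛ R ((ℛ R a).left i)), TensorProduct.map_tmul, LinearMap.id_apply,
    TensorProduct.sum_tmul, Finset.smul_sum]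
  refine Eq.trans ?_ (H.symm.trans ?_)
  · rfl
  · simp [TensorProduct.smul_tmul']

/-- slices of `Δ b` stay invariant -/
lemma lTr_mem_inv (π : A →ₐc[R] C) (h : A →ₗ[R] R) {b : A}
    (hb : b ∈ inv (rightCoaction (π : A →ₐ[R] C))) :
    lTr h b ∈ inv (rightCoaction (π : A →ₐ[R] C)) := by
  rw [AlgHom.mem_equalizer, Algebra.TensorProduct.includeLeft_apply] at hb ⊢
  rw [rightCoaction_lTr, hb]
  rfl

variable [Module.Finite R A] [Module.Projective R A]

/-- `Δ B ⊆ A ⊗ B` -/
lemma comul_mem_range (π : A →ₐc[R] C) {b : A} (hb : b ∈ inv (rightCoaction (π : A →ₐ[R] C))) :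
    comul (R := R) b ∈ LinearMap.range
      (TensorProduct.map LinearMap.id (inv (rightCoaction (π : A →ₐ[R] C))).val.toLinearMap) := by
  obtain ⟨n, e, φ, hφ⟩ := exists_dual_basis (R := R) (M := A)
  have key : ∀ t : A ⊗[R] A,
      ∑ k, e k ⊗ₜ[R] TensorProduct.lid R A ((φ k).rTensor A t) = t := by
    intro t
    induction t using TensorProduct.induction_on with
    | zero => simp
    | add x y hx hy => simp [TensorProduct.tmul_add, Finset.sum_add_distrib, hx, hy]
    | tmul x y =>
      conv_rhs => rw [← hφ x, TensorProduct.sum_tmul]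
      simp [TensorProduct.smul_tmul]
  refine ⟨∑ k, e k ⊗ₜ[R] ⟨lTr (φ k) b, lTr_mem_inv π (φ k) hb⟩, ?_⟩
  rw [map_sum]
  exact key _

/-- inverse shear -/
abbrev shear : A →ₐ[R] A ⊗[R] A :=
  (Algebra.TensorProduct.map (HopfAlgebra.antipodeAlgHom R A) (AlgHom.id R A)).comp
    (Bialgebra.comulAlgHom R A)

omit [Module.Finite R A] [Module.Projective R A] in
lemma shear_repr {κ : Type*} {a : A} (r : Coalgebra.Repr R a κ) :
    shear (R := R) a = ∑ i ∈ r.index, antipode R (r.left i) ⊗ₜ[R] r.right i := by
  simp [← r.eq, map_sum]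

omit [Module.Finite R A] [Module.Projective R A] in
lemma shear_left_inverse (x : A ⊗[R] A) :
    Algebra.TensorProduct.productMap Algebra.TensorProduct.includeLeft (shear (R := R))
      (Algebra.TensorProduct.productMap Algebra.TensorProduct.includeLeft
        (Bialgebra.comulAlgHom R A) x) = x := by
  set Ψ := Algebra.TensorProduct.productMap (Algebra.TensorProduct.includeLeft :
    A →ₐ[R] A ⊗[R] A) (shear (R := R))
  induction x using TensorProduct.induction_on with
  | zero => simp
  | add x y hx hy => simp [hx, hy]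
  | tmul p a =>
    rw [Algebra.TensorProduct.productMap_apply_tmul, map_mul]
    have h0 : Ψ ((Algebra.TensorProduct.includeLeft : A →ₐ[R] A ⊗[R] A) p) = p ⊗ₜ[R] (1 : A) := by
      simp [Ψ, ← Algebra.TensorProduct.one_def]
    let Φ : A ⊗[R] (A ⊗[R] A) →ₗ[R] A ⊗[R] A :=
      TensorProduct.map (LinearMap.mul' R A ∘ₗ (antipode R).lTensor A) LinearMap.id ∘ₗ
        (TensorProduct.assoc R A A A).symm.toLinearMap
    have hΦ : ∀ u v w, Φ (u ⊗ₜ (v ⊗ₜ w)) = (u * antipode R v) ⊗ₜ[R] w := by
      intro u v w; simp [Φ]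
    have H := congrArg Φ (Coalgebra.sum_tmul_tmul_eq (ℛ R a) (fun i => ℛ R _) (fun i => ℛ R _))
    simp only [map_sum, hΦ] at H
    have h1 : Ψ (Bialgebra.comulAlgHom R A a) = (1 : A) ⊗ₜ[R] a := by
      calc _ = ∑ i ∈ (ℛ R a).index, ∑ b ∈ (ℛ R ((ℛ R a).right i)).index,
            ((ℛ R a).left i * antipode R ((ℛ R ((ℛ R a).right i)).left b)) ⊗ₜ[R]
              (ℛ R ((ℛ R a).right i)).right b := by
            rw [Bialgebra.comulAlgHom_apply, ← (ℛ R a).eq, map_sum]
            refine Finset.sum_congr rfl fun i _ => ?_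
            rw [Algebra.TensorProduct.productMap_apply_tmul, shear_repr (ℛ R _), Finset.mul_sum]
            simp
        _ = ∑ i ∈ (ℛ R a).index,
            (1 : A) ⊗ₜ[R] (counit (R := R) ((ℛ R a).left i) • (ℛ R a).right i) := by
            rw [← H]
            refine Finset.sum_congr rfl fun i _ => ?_
            rw [← TensorProduct.sum_tmul, sum_mul_antipode_eq_smul, TensorProduct.smul_tmul]
        _ = _ := by rw [← TensorProduct.tmul_sum, Coalgebra.sum_counit_smul]
    rw [h0, h1]
    simp

variable [Module.Finite R C] [Module.Projective R C]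

/-- The quotient by a subgroup cut out by an idempotent is unramified. -/
theorem formallyUnramified_inv (π : A →ₐc[R] C) (hπ : Function.Surjective π) (η : A)
    (hη : IsIdempotentElem η) (hη0 : π η = 0)
    (hker : RingHom.ker (π : A →ₐ[R] C) ≤ Ideal.span {η}) :
    Algebra.FormallyUnramified R (inv (rightCoaction (π : A →ₐ[R] C))) := by
  set ρ := rightCoaction (π : A →ₐ[R] C)
  have hρ : IsGalois ρ := isGalois_rightCoaction π hπ
  set B := inv ρ
  obtain ⟨θ, hθ⟩ : ∃ θ : A →ₗ[B] B, θ 1 = 1 := hρ.exists_retraction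
  set Φ := Algebra.TensorProduct.productMap
    (Algebra.TensorProduct.includeLeft : A →ₐ[R] A ⊗[R] C) ρ
  set Γ := Algebra.TensorProduct.productMap
    (Algebra.TensorProduct.includeLeft : A →ₐ[R] A ⊗[R] A) (Bialgebra.comulAlgHom R A)
  set Ψ := Algebra.TensorProduct.productMap
    (Algebra.TensorProduct.includeLeft : A →ₐ[R] A ⊗[R] A) (shear (R := R))
  -- the kernel of `Φ` is generated by one idempotent
  set E : A ⊗[R] A := shear (R := R) η
  have hΦΓ : ∀ x, Φ x = Algebra.TensorProduct.map (AlgHom.id R A) (π : A →ₐ[R] C) (Γ x) := by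
    intro x
    induction x using TensorProduct.induction_on with
    | zero => simp
    | add x y hx hy => simp [hx, hy]
    | tmul p a => simp [Φ, Γ, ρ]
  have hkerΦ : ∀ x, Φ x = 0 → x ∈ Ideal.span {E} := by
    intro x hx
    rw [hΦΓ] at hx
    have h1 : Γ x ∈ RingHom.ker (Algebra.TensorProduct.map (AlgHom.id R A) (π : A →ₐ[R] C)) := hx
    rw [Algebra.TensorProduct.lTensor_ker (π : A →ₐ[R] C) hπ] at h1
    have h2 : Ideal.map (Algebra.TensorProduct.includeRight : A →ₐ[R] A ⊗[R] A)
        (RingHom.ker (π : A →ₐ[R] C)) ≤ Ideal.span {(1 : A) ⊗ₜ[R] η} := by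
      refine (Ideal.map_mono hker).trans ?_
      rw [Ideal.map_span, Set.image_singleton]
      rfl
    obtain ⟨w, hw⟩ := Ideal.mem_span_singleton'.1 (h2 h1)
    refine Ideal.mem_span_singleton'.2 ⟨Ψ w, ?_⟩
    rw [← shear_left_inverse (R := R) x]
    show Ψ w * E = Ψ (Γ x)
    rw [← hw, map_mul]
    simp [Ψ, E, ← Algebra.TensorProduct.one_def]
  have hΦE : Φ E = 0 := by
    have h : Φ (shear (R := R) η) = (1 : A) ⊗ₜ[R] π η := by
      let Φ' : A ⊗[R] (A ⊗[R] A) →ₗ[R] A ⊗[R] C :=
        TensorProduct.map (LinearMap.mul' R A ∘ₗ (antipode R).rTensor A)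
          (π : A →ₐ[R] C).toLinearMap ∘ₗ (TensorProduct.assoc R A A A).symm.toLinearMap
      have hΦ' : ∀ u v w, Φ' (u ⊗ₜ (v ⊗ₜ w)) = (antipode R u * v) ⊗ₜ[R] π w := by
        intro u v w; simp [Φ']
      have H := congrArg Φ'
        (Coalgebra.sum_tmul_tmul_eq (ℛ R η) (fun i => ℛ R _) (fun i => ℛ R _))
      simp only [map_sum, hΦ'] at H
      calc _ = ∑ i ∈ (ℛ R η).index, ∑ b ∈ (ℛ R ((ℛ R η).right i)).index,
            (antipode R ((ℛ R η).left i) * (ℛ R ((ℛ R η).right i)).left b) ⊗ₜ[R]
              π ((ℛ R ((ℛ R η).right i)).right b) := by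
            simp [Φ, shear_repr (ℛ R η), map_sum, ρ,
              fun i => rightCoaction_repr (π : A →ₐ[R] C) (ℛ R ((ℛ R η).right i)), Finset.mul_sum]
        _ = ∑ i ∈ (ℛ R η).index, (1 : A) ⊗ₜ[R] π (counit (R := R) ((ℛ R η).left i) •
              (ℛ R η).right i) := by
            rw [← H]
            refine Finset.sum_congr rfl fun i _ => ?_
            rw [← TensorProduct.sum_tmul, sum_antipode_mul_eq_smul, TensorProduct.smul_tmul,
              map_smul]
        _ = _ := by rw [← TensorProduct.tmul_sum, ← map_sum, Coalgebra.sum_counit_smul]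
    rw [show E = shear (R := R) η from rfl, h, hη0, TensorProduct.tmul_zero]
  -- compare with the diagonal ideal of `B`
  set K := KaehlerDifferential.ideal R B
  set ι : B ⊗[R] B →ₐ[R] A ⊗[R] A := Algebra.TensorProduct.map B.val B.val
  set J := Ideal.map ι K
  have hdiag : ∀ b : B, ((b : A) ⊗ₜ[R] (1 : A)) - (1 : A) ⊗ₜ[R] (b : A) ∈ J := by
    intro b
    have h : (b ⊗ₜ[R] (1 : B) - (1 : B) ⊗ₜ[R] b) ∈ K := by
      simp [K, KaehlerDifferential.ideal, RingHom.mem_ker]
    simpa [ι] using Ideal.mem_map_of_mem ι h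
  have hEJ : E ∈ J := by
    let f : A →ₐ[B] (A ⊗[R] A) ⧸ J :=
      (Ideal.Quotient.mkₐ B J).comp (Algebra.TensorProduct.includeLeft : A →ₐ[B] A ⊗[R] A)
    let g : A →ₐ[B] (A ⊗[R] A) ⧸ J :=
      { ((Ideal.Quotient.mkₐ R J).comp
          (Algebra.TensorProduct.includeRight : A →ₐ[R] A ⊗[R] A)).toRingHom with
        commutes' := fun b => (Ideal.Quotient.eq.2 (hdiag b)).symm }
    let q : A ⊗[B] A →ₐ[B] (A ⊗[R] A) ⧸ J :=
      Algebra.TensorProduct.lift f g fun _ _ => Commute.all _ _
    let p : A ⊗[R] A →ₐ[R] A ⊗[B] A := Algebra.TensorProduct.productMap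
      ((Algebra.TensorProduct.includeLeft : A →ₐ[B] A ⊗[B] A).restrictScalars R)
      ((Algebra.TensorProduct.includeRight : A →ₐ[B] A ⊗[B] A).restrictScalars R)
    have hqp : ∀ x, q (p x) = Ideal.Quotient.mk J x := by
      intro x
      induction x using TensorProduct.induction_on with
      | zero => simp
      | add x y hx hy => rw [map_add, map_add, hx, hy, map_add]
      | tmul u v =>
        have h : p (u ⊗ₜ[R] v) = u ⊗ₜ[B] v := by simp [p]
        rw [h]
        simp only [q, Algebra.TensorProduct.lift_tmul]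
        show Ideal.Quotient.mk J (u ⊗ₜ[R] 1) * Ideal.Quotient.mk J (1 ⊗ₜ[R] v) = _
        rw [← map_mul, Algebra.TensorProduct.tmul_mul_tmul, mul_one, one_mul]
    have hGp : ∀ x, IsGalois.galoisMap ρ (p x) = Φ x := by
      intro x
      induction x using TensorProduct.induction_on with
      | zero => simp
      | add x y hx hy => rw [map_add, map_add, hx, hy, map_add]
      | tmul u v =>
        have h : p (u ⊗ₜ[R] v) = u ⊗ₜ[B] v := by simp [p]
        rw [h, IsGalois.galoisMap_tmul]
        simp [Φ]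
    refine Ideal.Quotient.eq_zero_iff_mem.1 ?_
    rw [← hqp, (IsGalois.galoisMap_bijective hρ).1
      ((hGp E).trans (hΦE.trans (map_zero (IsGalois.galoisMap ρ)).symm)), map_zero]
  have hE2 : E ∈ Ideal.map ι (K * K) := by
    have he : E * E = E := (hη.map (shear (R := R)))
    rw [Ideal.map_mul, ← he]
    exact Ideal.mul_mem_mul hEJ hEJ
  have hιK : ∀ k ∈ K, Φ (ι k) = 0 := by
    intro k hk
    have h : ∀ z : B ⊗[R] B, Φ (ι z) =
        ((Algebra.TensorProduct.lmul' R (S := B) z : B) : A) ⊗ₜ[R] (1 : C) := by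
      intro z
      induction z using TensorProduct.induction_on with
      | zero => simp
      | add x y hx hy => simp [hx, hy, TensorProduct.add_tmul]
      | tmul u v =>
        have hv : ρ (v : A) = (v : A) ⊗ₜ[R] (1 : C) := v.2
        simp [Φ, ι, hv]
    have hk' : Algebra.TensorProduct.lmul' R (S := B) k = 0 := RingHom.mem_ker.1 hk
    rw [h, hk']
    simp
  -- descend along the retraction
  let Θ : A ⊗[R] A →ₗ[R] B ⊗[R] B :=
    TensorProduct.map (θ.restrictScalars R) (θ.restrictScalars R)
  have hΘ : ∀ x z, Θ (x * ι z) = Θ x * z := by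
    intro x z
    induction z using TensorProduct.induction_on with
    | zero => simp
    | add a b ha hb => simp [mul_add, ha, hb]
    | tmul u v =>
      induction x using TensorProduct.induction_on with
      | zero => simp
      | add a b ha hb => simp only [map_add, add_mul, ha, hb]
      | tmul a c =>
        have hθm : ∀ (r : B) (a : A), θ (a * (r : A)) = θ a * r := fun r a => by
          rw [mul_comm a, ← smul_eq_mul (r : A) a, ← Subalgebra.smul_def r a, map_smul,
            smul_eq_mul, mul_comm]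
        simp [Θ, ι, hθm]
  have hsq : K ≤ K * K := by
    intro k hk
    have h1 : ι k ∈ Ideal.map ι (K * K) :=
      (Ideal.span_le.2 (Set.singleton_subset_iff.2 hE2)) (hkerΦ _ (hιK k hk))
    have h2 : ∀ y ∈ Ideal.map ι (K * K), ∀ x, Θ (x * y) ∈ K * K := by
      intro y hy
      induction hy using Submodule.span_induction with
      | mem y hy =>
        obtain ⟨c, hc, rfl⟩ := hy
        intro x
        rw [hΘ]
        exact Ideal.mul_mem_left _ _ hc
      | zero => simp
      | add a b _ _ ha hb => intro x; rw [mul_add, map_add]; exact add_mem (ha x) (hb x)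
      | smul r a _ ha => intro x; rw [smul_eq_mul, ← mul_assoc]; exact ha _
    have h3 := h2 _ h1 1
    rwa [hΘ, show Θ 1 = 1 by simp [Θ, Algebra.TensorProduct.one_def, hθ], one_mul] at h3
  rw [Algebra.formallyUnramified_iff]
  exact (Ideal.cotangent_subsingleton_iff _).2 (le_antisymm Ideal.mul_le_left hsq)

/-- An unramified algebra: two points agreeing modulo the Jacobson radical agree. -/
theorem algHom_eq_of_sub_mem_jacobson {B T : Type*} [CommRing B] [Algebra R B] [CommRing T]
    [Algebra R T] [Algebra.FormallyUnramified R B] [Algebra.EssFiniteType R B] (f g : B →ₐ[R] T)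
    (h : ∀ b, f b - g b ∈ Ring.jacobson T) : f = g := by
  obtain ⟨η, hη, hK⟩ := (Ideal.isIdempotentElem_iff_of_fg _ (KaehlerDifferential.ideal_fg R B)).1
    ((Ideal.cotangent_subsingleton_iff _).1
      (Algebra.FormallyUnramified.subsingleton_kaehlerDifferential (R := R) (A := B)))
  let F := Algebra.TensorProduct.productMap f g
  have hdiff : ∀ b, f b - g b = F (b ⊗ₜ[R] 1 - 1 ⊗ₜ[R] b) := by
    intro b; simp [F]
  have hmem : ∀ b : B, b ⊗ₜ[R] (1 : B) - 1 ⊗ₜ[R] b ∈ KaehlerDifferential.ideal R B := by
    intro b; simp [KaehlerDifferential.ideal, RingHom.mem_ker]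
  have hFη : F η ∈ Ring.jacobson T := by
    suffices hle : (KaehlerDifferential.ideal R B).map F ≤ Ring.jacobson T from
      hle (Ideal.mem_map_of_mem F (hK ▸ Ideal.mem_span_singleton_self η))
    rw [← KaehlerDifferential.span_range_eq_ideal, Ideal.map_span, Ideal.span_le]
    rintro _ ⟨_, ⟨b, rfl⟩, rfl⟩
    have := (Ring.jacobson T).neg_mem (h b)
    simpa [F] using this
  have h0 : F η = 0 := by
    rw [Ring.jacobson_eq_sInf_isMaximal] at hFη
    have hu : IsUnit (1 - F η) := by
      by_contra hu
      obtain ⟨m, hm, hmem⟩ := exists_max_ideal_of_mem_nonunits hu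
      have := m.add_mem hmem (Submodule.mem_sInf.1 hFη m hm)
      rw [sub_add_cancel] at this
      exact hm.ne_top (m.eq_top_iff_one.2 this)
    refine hu.mul_right_eq_zero.1 ?_
    rw [sub_mul, one_mul, (hη.map F).eq, sub_self]
  refine AlgHom.ext fun b => sub_eq_zero.1 ?_
  have hb := hmem b
  rw [hK, Ideal.mem_span_singleton'] at hb
  obtain ⟨r, hr⟩ := hb
  rw [hdiff, ← hr, map_mul, h0, mul_zero]

/-- A local subgroup with unramified quotient is normal: right invariants are left invariants. -/
theorem map_comul_eq_one_tmul [IsLocalRing C] (π : A →ₐc[R] C) (hπ : Function.Surjective π)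
    [Algebra.FormallyUnramified R (inv (rightCoaction (π : A →ₐ[R] C)))]
    {b : A} (hb : b ∈ inv (rightCoaction (π : A →ₐ[R] C))) :
    Algebra.TensorProduct.map (π : A →ₐ[R] C) (AlgHom.id R A) (Bialgebra.comulAlgHom R A b) =
      (1 : C) ⊗ₜ[R] b := by
  set B := inv (rightCoaction (π : A →ₐ[R] C))
  have hρ := isGalois_rightCoaction π hπ
  obtain ⟨θ, hθ⟩ := hρ.exists_retraction
  have := hρ.finite_inv
  let ι : C ⊗[R] B →ₐ[R] C ⊗[R] A := Algebra.TensorProduct.map (AlgHom.id R C) B.val
  have hι : Function.Injective ι := by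
    refine Function.LeftInverse.injective (g := (θ.restrictScalars R).lTensor C) fun x => ?_
    induction x using TensorProduct.induction_on with
    | zero => simp
    | add x y hx hy => simp only [map_add, hx, hy]
    | tmul c y =>
      have hy : θ (y : A) = y := by
        have h : θ (y • (1 : A)) = y • θ 1 := map_smul θ y 1
        simpa [hθ, Subalgebra.smul_def] using h
      simp [ι, hy]
  let l₀ : B →ₐ[R] C ⊗[R] A :=
    ((Algebra.TensorProduct.map (π : A →ₐ[R] C) (AlgHom.id R A)).comp
      (Bialgebra.comulAlgHom R A)).comp B.val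
  have hrange : ∀ y, l₀ y ∈ ι.range := by
    intro y
    obtain ⟨t, ht⟩ := comul_mem_range π y.2
    refine ⟨Algebra.TensorProduct.map (π : A →ₐ[R] C) (AlgHom.id R B) t, ?_⟩
    show ι _ = Algebra.TensorProduct.map (π : A →ₐ[R] C) (AlgHom.id R A) (comul (R := R) (y : A))
    rw [← ht]
    clear ht
    induction t using TensorProduct.induction_on with
    | zero => simp
    | add x z hx hz => simp only [map_add, hx, hz]
    | tmul u v => simp [ι, B]
  let l : B →ₐ[R] C ⊗[R] B :=
    (AlgEquiv.ofInjective ι hι).symm.toAlgHom.comp (l₀.codRestrict ι.range hrange)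
  have hl : ∀ y, ι (l y) = l₀ y := fun y =>
    congrArg Subtype.val ((AlgEquiv.ofInjective ι hι).apply_symm_apply (l₀.codRestrict ι.range hrange y))
  have heq : l = (Algebra.TensorProduct.includeRight : B →ₐ[R] C ⊗[R] B) := by
    refine algHom_eq_of_sub_mem_jacobson _ _ fun y => ?_
    -- everything killed by the counit of `C` is in the Jacobson radical
    set ev : C ⊗[R] B →ₐ[R] B := (Algebra.TensorProduct.lid R B).toAlgHom.comp
      (Algebra.TensorProduct.map (Bialgebra.counitAlgHom R C) (AlgHom.id R B))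
    have hev : ∀ x, ev x = 0 → x ∈ Ring.jacobson (C ⊗[R] B) := by
      have hm : ∀ c : C, counit (R := R) c = 0 → c ∈ IsLocalRing.maximalIdeal C := by
        intro c hc
        have : Nontrivial R := by
          refine not_subsingleton_iff_nontrivial.1 fun h => ?_
          have := Module.subsingleton R C
          exact false_of_nontrivial_of_subsingleton C
        exact IsLocalRing.le_maximalIdeal (RingHom.ker_ne_top (Bialgebra.counitAlgHom R C)) hc
      intro x hx
      rw [Ring.jacobson_eq_sInf_isMaximal]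
      refine Submodule.mem_sInf.2 fun (m : Ideal (C ⊗[R] B)) (hm' : m.IsMaximal) => ?_
      have : Module.Finite C (C ⊗[R] B) := Module.Finite.base_change R C B
      have hmax : (m.comap (algebraMap C (C ⊗[R] B))).IsMaximal :=
        Ideal.isMaximal_comap_of_isIntegral_of_isMaximal m
      have hcm : ∀ c : C, counit (R := R) c = 0 → c ⊗ₜ[R] (1 : B) ∈ m := fun c hc => by
        have h := IsLocalRing.eq_maximalIdeal hmax ▸ hm c hc
        exact h
      suffices h : ∀ x, x - (1 : C) ⊗ₜ[R] ev x ∈ m by simpa [hx] using h x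
      intro x
      induction x using TensorProduct.induction_on with
      | zero => simp
      | add a c ha hc =>
        have : a + c - (1 : C) ⊗ₜ[R] ev (a + c) =
            (a - (1 : C) ⊗ₜ[R] ev a) + (c - (1 : C) ⊗ₜ[R] ev c) := by
          rw [map_add, TensorProduct.tmul_add]; abel
        rw [this]
        exact m.add_mem ha hc
      | tmul c z =>
        have h : c ⊗ₜ[R] z - (1 : C) ⊗ₜ[R] ev (c ⊗ₜ[R] z) =
            ((c - algebraMap R C (counit c)) ⊗ₜ[R] (1 : B)) * ((1 : C) ⊗ₜ[R] z) := by
          rw [Algebra.TensorProduct.tmul_mul_tmul, mul_one, one_mul, TensorProduct.sub_tmul]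
          simp [ev, Algebra.algebraMap_eq_smul_one, TensorProduct.smul_tmul]
        rw [h]
        exact m.mul_mem_right _ (hcm _ (by simp))
    refine hev _ (Subtype.ext ?_)
    have hval : ∀ x, ((ev x : B) : A) =
        TensorProduct.lid R A ((Coalgebra.counit (R := R)).rTensor A (ι x)) := by
      intro x
      induction x using TensorProduct.induction_on with
      | zero => simp
      | add a c ha hc => simp [ha, hc]
      | tmul c z => simp [ev, ι]
    rw [hval, map_sub, hl, Algebra.TensorProduct.includeRight_apply]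
    simp only [l₀, AlgHom.comp_apply, Bialgebra.comulAlgHom_apply, Subalgebra.coe_val,
      ZeroMemClass.coe_zero]
    rw [← (ℛ R (y : A)).eq]
    simp [ι, map_sum]
  have h := hl ⟨b, hb⟩
  rw [heq] at h
  exact h.symm

/-- the invariants of a local open subgroup form a Hopf subalgebra -/
theorem comul_mem_range_inv [IsLocalRing C] (π : A →ₐc[R] C) (hπ : Function.Surjective π)
    [Algebra.FormallyUnramified R (inv (rightCoaction (π : A →ₐ[R] C)))]
    {b : A} (hb : b ∈ inv (rightCoaction (π : A →ₐ[R] C))) :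
    comul (R := R) b ∈ LinearMap.range (TensorProduct.map
      (inv (rightCoaction (π : A →ₐ[R] C))).val.toLinearMap
      (inv (rightCoaction (π : A →ₐ[R] C))).val.toLinearMap) := by
  set ρ := rightCoaction (π : A →ₐ[R] C)
  set B := inv ρ
  obtain ⟨θ, hθ⟩ := (isGalois_rightCoaction π hπ).exists_retraction
  let θ' : A →ₗ[R] A := B.val.toLinearMap ∘ₗ θ.restrictScalars R
  -- `Δ b ∈ A ⊗ B`
  have h1 : TensorProduct.map LinearMap.id θ' (comul (R := R) b) = comul (R := R) b := by
    obtain ⟨t, ht⟩ := comul_mem_range π hb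
    rw [← ht]
    clear ht
    induction t using TensorProduct.induction_on with
    | zero => simp
    | add x z hx hz => simp only [map_add, hx, hz]
    | tmul u v =>
      have hy : θ (v : A) = v := by
        have h : θ (v • (1 : A)) = v • θ 1 := map_smul θ v 1
        simpa [hθ, Subalgebra.smul_def] using h
      simp [θ', hy]
  -- `Δ b ∈ B ⊗ A`
  have h2 : ∀ h : A →ₗ[R] R, rTr h b ∈ B := by
    intro h
    rw [AlgHom.mem_equalizer, Algebra.TensorProduct.includeLeft_apply]
    let Φ : A ⊗[R] (A ⊗[R] A) →ₗ[R] A ⊗[R] C :=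
      TensorProduct.map LinearMap.id ((TensorProduct.rid R C).toLinearMap ∘ₗ
        TensorProduct.map (π : A →ₐ[R] C).toLinearMap h)
    have hΦ : ∀ u v w, Φ (u ⊗ₜ (v ⊗ₜ w)) = h w • (u ⊗ₜ[R] π v) := by
      intro u v w; simp [Φ]
    have H := congrArg Φ (Coalgebra.sum_tmul_tmul_eq (ℛ R b) (fun i => ℛ R _) (fun i => ℛ R _))
    simp only [map_sum, hΦ] at H
    have hleft : ∀ x ∈ B, ∑ j ∈ (ℛ R x).index, h ((ℛ R x).right j) • π ((ℛ R x).left j) =
        h x • (1 : C) := by
      intro x hx
      have := congrArg (fun t => TensorProduct.rid R C (h.lTensor C t)) (map_comul_eq_one_tmul π hπ hx)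
      simpa [← (ℛ R x).eq, map_sum] using this
    have h3 : ρ (rTr h b) = TensorProduct.map LinearMap.id
        ((TensorProduct.rid R C).toLinearMap ∘ₗ h.lTensor C ∘ₗ
          (Algebra.TensorProduct.map (π : A →ₐ[R] C) (AlgHom.id R A)).toLinearMap ∘ₗ comul)
        (comul (R := R) b) := by
      conv_rhs => rw [← (ℛ R b).eq]
      rw [rTr_repr h (ℛ R b)]
      simp only [ρ, map_sum, map_smul]
      simp only [fun i => rightCoaction_repr (π : A →ₐ[R] C) (ℛ R ((ℛ R b).left i)),
        Finset.smul_sum, TensorProduct.map_tmul, LinearMap.id_apply, LinearMap.comp_apply,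
        LinearEquiv.coe_coe, AlgHom.toLinearMap_apply]
      refine Eq.trans ?_ (H.trans ?_)
      · rfl
      · refine Finset.sum_congr rfl fun i _ => ?_
        rw [← (ℛ R ((ℛ R b).right i)).eq]
        simp [map_sum, TensorProduct.tmul_sum, TensorProduct.tmul_smul]
    obtain ⟨t, ht⟩ := comul_mem_range π hb
    have h4 : rTr h b = TensorProduct.rid R A (h.lTensor A (comul (R := R) b)) := rfl
    rw [h3, h4, ← ht]
    clear ht
    induction t using TensorProduct.induction_on with
    | zero => simp
    | add x z hx hz => simp only [map_add, TensorProduct.add_tmul, hx, hz]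
    | tmul u v =>
      have hv : (Algebra.TensorProduct.map (π : A →ₐ[R] C) (AlgHom.id R A))
          (comul (R := R) (v : A)) = (1 : C) ⊗ₜ[R] (v : A) := map_comul_eq_one_tmul π hπ v.2
      simp only [TensorProduct.map_tmul, LinearMap.id_apply, LinearMap.comp_apply,
        AlgHom.toLinearMap_apply, Subalgebra.coe_val, LinearMap.lTensor_tmul, hv,
        LinearEquiv.coe_coe, TensorProduct.rid_tmul]
      simp [TensorProduct.tmul_smul, TensorProduct.smul_tmul']
  obtain ⟨n, e, φ, hφ⟩ := exists_dual_basis (R := R) (M := A)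
  have key : ∀ t : A ⊗[R] A,
      ∑ k, TensorProduct.rid R A ((φ k).lTensor A t) ⊗ₜ[R] e k = t := by
    intro t
    induction t using TensorProduct.induction_on with
    | zero => simp
    | add x y hx hy => simp [TensorProduct.add_tmul, Finset.sum_add_distrib, hx, hy]
    | tmul x y =>
      conv_rhs => rw [← hφ y, TensorProduct.tmul_sum]
      simp [TensorProduct.smul_tmul']
  refine ⟨∑ k, ⟨rTr (φ k) b, h2 (φ k)⟩ ⊗ₜ[R] θ (e k), ?_⟩
  rw [← h1, map_sum]
  conv_rhs => rw [← key (comul (R := R) b), map_sum]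
  rfl

/-- … stable under the antipode -/
theorem antipode_mem_inv [IsLocalRing C] (π : A →ₐc[R] C) (hπ : Function.Surjective π)
    [Algebra.FormallyUnramified R (inv (rightCoaction (π : A →ₐ[R] C)))]
    (hS : ∀ a, π (antipode R a) = antipode R (π a))
    {b : A} (hb : b ∈ inv (rightCoaction (π : A →ₐ[R] C))) :
    antipode R b ∈ inv (rightCoaction (π : A →ₐ[R] C)) := by
  rw [AlgHom.mem_equalizer, Algebra.TensorProduct.includeLeft_apply]
  have hF : ∀ t : A ⊗[R] A,
      Algebra.TensorProduct.map (AlgHom.id R A) (π : A →ₐ[R] C)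
          (TensorProduct.map (antipode R) (antipode R) (TensorProduct.comm R A A t)) =
        TensorProduct.comm R C A (TensorProduct.map (antipode R) (antipode R)
          (Algebra.TensorProduct.map (π : A →ₐ[R] C) (AlgHom.id R A) t)) := by
    intro t
    induction t using TensorProduct.induction_on with
    | zero => simp
    | add x y hx hy => simp only [map_add, hx, hy]
    | tmul x y => simp [hS]
  show Algebra.TensorProduct.map (AlgHom.id R A) (π : A →ₐ[R] C) (comul (R := R) (antipode R b)) = _
  rw [Groth.Agent.H20Comod.comul_antipode, hF, ← Bialgebra.comulAlgHom_apply,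
    map_comul_eq_one_tmul π hπ hb]
  simp

end H20Quot
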