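import Mathlib.RingTheory.HopfAlgebra.Basic
import Mathlib.RingTheory.TensorProduct.Basic
import Mathlib.RingTheory.Finiteness.Projective
import Mathlib.RingTheory.Bialgebra.Basic

/-!
# Integrals on finite projective commutative Hopf algebras

For a commutative Hopf algebra `C` with a dual basis `(e, φ)` the maps
`T g x = trace (y ↦ (id ⊗ g) Δ (x y))` are integrals, and they satisfy
`∑ i, T (φ i) (S (e i) * c) = ε c` (Larson–Sweedler).
-/

noncomputable section

open scoped TensorProduct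
open Coalgebra HopfAlgebra

namespace H20Quot

variable {R : Type*} [CommRing R]

section tau
variable {M N : Type*} [AddCommGroup M] [Module R M] [AddCommGroup N] [Module R N]
variable {ι κ : Type*} [Fintype ι] [Fintype κ]

/-- trace with respect to a dual basis -/
def tau (e : ι → M) (φ : ι → M →ₗ[R] R) (f : M →ₗ[R] M) : R := ∑ k, φ k (f (e k))

lemma tau_cyclic (e : ι → M) (φ : ι → M →ₗ[R] R) (hφ : ∀ x, ∑ k, φ k x • e k = x)
    (d : κ → N) (ψ : κ → N →ₗ[R] R) (hψ : ∀ x, ∑ k, ψ k x • d k = x)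
    (f : M →ₗ[R] N) (g : N →ₗ[R] M) :
    tau e φ (g ∘ₗ f) = tau d ψ (f ∘ₗ g) := by
  simp only [tau, LinearMap.comp_apply]
  calc ∑ k, φ k (g (f (e k)))
      = ∑ k, ∑ l, ψ l (f (e k)) * φ k (g (d l)) := by
        refine Finset.sum_congr rfl fun k _ => ?_
        conv_lhs => rw [← hψ (f (e k))]
        simp [map_sum, map_smul]
    _ = ∑ l, ψ l (f (∑ k, φ k (g (d l)) • e k)) := by
        rw [Finset.sum_comm]
        simp [map_sum, map_smul, mul_comm]
    _ = ∑ l, ψ l (f (g (d l))) := by simp [hφ]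

lemma exists_dual_basis [Module.Finite R M] [Module.Projective R M] :
    ∃ (n : ℕ) (e : Fin n → M) (φ : Fin n → M →ₗ[R] R), ∀ x, ∑ k, φ k x • e k = x := by
  obtain ⟨n, f, g, hf, hg, hfg⟩ := Module.Finite.exists_comp_eq_id_of_projective R M
  refine ⟨n, fun k => f (fun j => if k = j then 1 else 0),
    fun k => LinearMap.proj k ∘ₗ g, fun x => ?_⟩
  calc _ = f (∑ k, g x k • fun j => if k = j then (1 : R) else 0) := by simp [map_sum, map_smul]
    _ = f (g x) := by rw [← pi_eq_sum_univ (g x)]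
    _ = x := by simpa using LinearMap.congr_fun hfg x

/-- dual basis of a tensor square -/
def tmulDual (φ : ι → M →ₗ[R] R) (ψ : κ → N →ₗ[R] R) : ι × κ → M ⊗[R] N →ₗ[R] R :=
  fun p => (TensorProduct.lid R R).toLinearMap ∘ₗ TensorProduct.map (φ p.1) (ψ p.2)

lemma tmulDual_spec (e : ι → M) (φ : ι → M →ₗ[R] R) (hφ : ∀ x, ∑ k, φ k x • e k = x)
    (d : κ → N) (ψ : κ → N →ₗ[R] R) (hψ : ∀ x, ∑ k, ψ k x • d k = x) (z : M ⊗[R] N) :
    ∑ p : ι × κ, tmulDual φ ψ p z • (e p.1 ⊗ₜ[R] d p.2) = z := by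
  induction z using TensorProduct.induction_on with
  | zero => simp
  | add a b ha hb => simp [map_add, add_smul, Finset.sum_add_distrib, ha, hb]
  | tmul a b =>
    conv_rhs => rw [← hφ a, ← hψ b]
    simp only [TensorProduct.sum_tmul, TensorProduct.tmul_sum, ← TensorProduct.smul_tmul',
      TensorProduct.tmul_smul, Finset.smul_sum, smul_smul]
    rw [Fintype.sum_prod_type, Finset.sum_comm]
    refine Finset.sum_congr rfl fun l _ => Finset.sum_congr rfl fun k _ => ?_
    simp [tmulDual, mul_comm]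

end tau

variable {C : Type*} [CommRing C] [HopfAlgebra R C]

/-- `y ↦ ∑ h(y₁) y₂` -/
def lTr (h : C →ₗ[R] R) : C →ₗ[R] C :=
  (TensorProduct.lid R C).toLinearMap ∘ₗ h.rTensor C ∘ₗ Coalgebra.comul

/-- `y ↦ ∑ y₁ g(y₂)` -/
def rTr (g : C →ₗ[R] R) : C →ₗ[R] C :=
  (TensorProduct.rid R C).toLinearMap ∘ₗ g.lTensor C ∘ₗ Coalgebra.comul

lemma lTr_repr {κ : Type*} (h : C →ₗ[R] R) {y : C} (r : Coalgebra.Repr R y κ) :
    lTr h y = ∑ i ∈ r.index, h (r.left i) • r.right i := by
  simp [lTr, ← r.eq, map_sum]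

lemma rTr_repr {κ : Type*} (g : C →ₗ[R] R) {y : C} (r : Coalgebra.Repr R y κ) :
    rTr g y = ∑ i ∈ r.index, g (r.right i) • r.left i := by
  simp [rTr, ← r.eq, map_sum]

lemma rTr_lTr (g h : C →ₗ[R] R) (y : C) : rTr g (lTr h y) = lTr h (rTr g y) := by
  let Φ : C ⊗[R] (C ⊗[R] C) →ₗ[R] C :=
    (TensorProduct.lid R C).toLinearMap ∘ₗ
      TensorProduct.map h ((TensorProduct.rid R C).toLinearMap ∘ₗ g.lTensor C)
  have H := congrArg Φ (Coalgebra.sum_tmul_tmul_eq (ℛ R y) (fun i => ℛ R _) (fun i => ℛ R _))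
  simp only [Φ, map_sum, LinearMap.comp_apply, TensorProduct.map_tmul, LinearMap.lTensor_tmul,
    LinearEquiv.coe_coe, TensorProduct.lid_tmul, TensorProduct.rid_tmul, smul_smul] at H
  rw [lTr_repr h (ℛ R y), rTr_repr g (ℛ R y)]
  simp only [map_sum, map_smul]
  simp only [rTr_repr g (ℛ R _), lTr_repr h (ℛ R _), Finset.smul_sum, smul_smul]
  rw [← H]
  simp only [mul_comm]

variable {ι : Type*} [Fintype ι] (e : ι → C) (φ : ι → C →ₗ[R] R)

lemma sum_dual_mul (hφ : ∀ x, ∑ k, φ k x • e k = x) (h : C →ₗ[R] R) (u z : C) :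
    ∑ k, φ k u * h (e k * z) = h (u * z) := by
  conv_rhs => rw [← hφ u]
  simp [Finset.sum_mul, map_sum, map_smul]

lemma lTr_mul (hφ : ∀ x, ∑ k, φ k x • e k = x) (h : C →ₗ[R] R) (x y : C) :
    lTr h x * y = ∑ k, lTr (h ∘ₗ LinearMap.mulLeft R (e k))
      (x * lTr (φ k ∘ₗ antipode R) y) := by
  let rx := ℛ R x
  let Φ : C ⊗[R] (C ⊗[R] C) →ₗ[R] C := ∑ j ∈ rx.index,
    (TensorProduct.lid R C).toLinearMap ∘ₗ
    TensorProduct.map
      (h ∘ₗ LinearMap.mulLeft R (rx.left j) ∘ₗ LinearMap.mul' R C ∘ₗ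
        (antipode R).rTensor C)
      (LinearMap.mulLeft R (rx.right j)) ∘ₗ
    (TensorProduct.assoc R C C C).symm.toLinearMap
  have hΦ : ∀ u v w, Φ (u ⊗ₜ (v ⊗ₜ w)) =
      ∑ j ∈ rx.index, h (rx.left j * (antipode R u * v)) • (rx.right j * w) := by
    intro u v w
    simp [Φ]
  have H := congrArg Φ (Coalgebra.sum_tmul_tmul_eq (ℛ R y) (fun i => ℛ R _) (fun i => ℛ R _))
  simp only [map_sum, hΦ] at H
  calc lTr h x * y
      = ∑ i ∈ (ℛ R y).index, ∑ j ∈ rx.index,
          h (rx.left j * (algebraMap R C (counit ((ℛ R y).left i)))) •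
            (rx.right j * (ℛ R y).right i) := by
        conv_lhs => rw [lTr_repr h rx, ← Coalgebra.sum_counit_smul (ℛ R y), Finset.mul_sum]
        refine Finset.sum_congr rfl fun i _ => ?_
        rw [Finset.sum_mul]
        refine Finset.sum_congr rfl fun j _ => ?_
        rw [mul_comm (rx.left j) (algebraMap R C _), ← Algebra.smul_def, map_smul, mul_smul_comm,
          smul_mul_assoc, smul_smul, smul_eq_mul]
    _ = ∑ i ∈ (ℛ R y).index, ∑ a ∈ (ℛ R ((ℛ R y).left i)).index, ∑ j ∈ rx.index,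
          h (rx.left j * (antipode R ((ℛ R ((ℛ R y).left i)).left a) *
            (ℛ R ((ℛ R y).left i)).right a)) • (rx.right j * (ℛ R y).right i) := by
        refine Finset.sum_congr rfl fun i _ => ?_
        rw [Finset.sum_comm]
        refine Finset.sum_congr rfl fun j _ => ?_
        rw [← Finset.sum_smul, ← map_sum, ← Finset.mul_sum,
          sum_antipode_mul_eq_algebraMap_counit]
    _ = _ := by
        rw [H]
        symm
        have hL : ∀ k, lTr (h ∘ₗ LinearMap.mulLeft R (e k)) (x * lTr (φ k ∘ₗ antipode R) y) =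
            ∑ i ∈ (ℛ R y).index, ∑ b ∈ (ℛ R ((ℛ R y).right i)).index, ∑ j ∈ rx.index,
              (φ k (antipode R ((ℛ R y).left i)) *
                h (e k * (rx.left j * (ℛ R ((ℛ R y).right i)).left b))) •
                (rx.right j * (ℛ R ((ℛ R y).right i)).right b) := by
          intro k
          rw [lTr_repr (φ k ∘ₗ antipode R) (ℛ R y), Finset.mul_sum, map_sum]
          refine Finset.sum_congr rfl fun i _ => ?_
          rw [mul_smul_comm, map_smul]
          simp only [lTr, LinearMap.comp_apply, Bialgebra.comul_mul, ← rx.eq,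
            ← (ℛ R ((ℛ R y).right i)).eq, Finset.sum_mul_sum, Algebra.TensorProduct.tmul_mul_tmul,
            map_sum, LinearMap.rTensor_tmul, LinearMap.mulLeft_apply, LinearEquiv.coe_coe,
            TensorProduct.lid_tmul, Finset.smul_sum, smul_smul]
          exact Finset.sum_comm
        simp only [hL]
        rw [Finset.sum_comm]
        refine Finset.sum_congr rfl fun i _ => ?_
        rw [Finset.sum_comm]
        refine Finset.sum_congr rfl fun b _ => ?_
        rw [Finset.sum_comm]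
        refine Finset.sum_congr rfl fun j _ => ?_
        rw [← Finset.sum_smul, sum_dual_mul e φ hφ]
        congr 2
        ring

lemma sum_lTr_lTr (hφ : ∀ x, ∑ k, φ k x • e k = x) (h : C →ₗ[R] R) (y : C) :
    ∑ k, lTr (φ k ∘ₗ antipode R) (lTr (h ∘ₗ LinearMap.mulLeft R (e k)) y) = h 1 • y := by
  let Φ : C ⊗[R] (C ⊗[R] C) →ₗ[R] C :=
    (TensorProduct.lid R C).toLinearMap ∘ₗ
    TensorProduct.map (h ∘ₗ LinearMap.mul' R C ∘ₗ (antipode R).lTensor C) LinearMap.id ∘ₗ
    (TensorProduct.assoc R C C C).symm.toLinearMap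
  have hΦ : ∀ u v w, Φ (u ⊗ₜ (v ⊗ₜ w)) = h (u * antipode R v) • w := by
    intro u v w
    simp [Φ]
  have H := congrArg Φ (Coalgebra.sum_tmul_tmul_eq (ℛ R y) (fun i => ℛ R _) (fun i => ℛ R _))
  simp only [map_sum, hΦ] at H
  calc _ = ∑ i ∈ (ℛ R y).index, ∑ b ∈ (ℛ R ((ℛ R y).right i)).index,
        h ((ℛ R y).left i * antipode R ((ℛ R ((ℛ R y).right i)).left b)) •
          (ℛ R ((ℛ R y).right i)).right b := by
        simp only [fun k => lTr_repr (h ∘ₗ LinearMap.mulLeft R (e k)) (ℛ R y), map_sum, map_smul,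
          fun k i => lTr_repr (φ k ∘ₗ antipode R) (ℛ R ((ℛ R y).right i)), Finset.smul_sum,
          smul_smul]
        rw [Finset.sum_comm]
        refine Finset.sum_congr rfl fun i _ => ?_
        rw [Finset.sum_comm]
        refine Finset.sum_congr rfl fun b _ => ?_
        rw [← Finset.sum_smul, mul_comm ((ℛ R y).left i), ← sum_dual_mul e φ hφ h]
        congr 1
        refine Finset.sum_congr rfl fun k _ => ?_
        simp [mul_comm]
    _ = ∑ i ∈ (ℛ R y).index, h 1 • counit (R := R) ((ℛ R y).left i) • (ℛ R y).right i := by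
        rw [← H]
        refine Finset.sum_congr rfl fun i _ => ?_
        rw [← Finset.sum_smul, ← map_sum, sum_mul_antipode_eq_smul, map_smul, smul_smul,
          smul_eq_mul, mul_comm]
    _ = _ := by rw [← Finset.smul_sum, Coalgebra.sum_counit_smul]

/-- the integral attached to a functional `g` -/
def T (g : C →ₗ[R] R) : C →ₗ[R] R := ∑ k, φ k ∘ₗ rTr g ∘ₗ LinearMap.mulRight R (e k)

lemma T_eq_tau (g : C →ₗ[R] R) (x : C) :
    T e φ g x = tau e φ (rTr g ∘ₗ LinearMap.mulLeft R x) := by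
  simp [T, tau]

/-- `T g` is an integral: `∑ x₁ (T g) x₂ = (T g) x • 1`. -/
theorem rTr_T (hφ : ∀ x, ∑ k, φ k x • e k = x) (g : C →ₗ[R] R) (x : C) :
    rTr (T e φ g) x = T e φ g x • (1 : C) := by
  have key : ∀ h : C →ₗ[R] R, h (rTr (T e φ g) x) = T e φ g x * h 1 := by
    intro h
    have h1 : h (rTr (T e φ g) x) = T e φ g (lTr h x) := by
      rw [rTr_repr _ (ℛ R x), lTr_repr _ (ℛ R x)]
      simp [map_sum, mul_comm]
    set q : ι → C →ₗ[R] C := fun k => lTr (h ∘ₗ LinearMap.mulLeft R (e k))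
    set p : ι → C →ₗ[R] C := fun k => lTr (φ k ∘ₗ antipode R)
    calc h (rTr (T e φ g) x) = tau e φ (rTr g ∘ₗ LinearMap.mulLeft R (lTr h x)) := by
          rw [h1, T_eq_tau]
      _ = ∑ k, tau e φ (q k ∘ₗ (rTr g ∘ₗ LinearMap.mulLeft R x ∘ₗ p k)) := by
          simp only [tau]
          rw [Finset.sum_comm]
          refine Finset.sum_congr rfl fun j _ => ?_
          rw [← map_sum]
          congr 1
          simp [q, p, lTr_mul e φ hφ, map_sum, rTr_lTr]
      _ = ∑ k, tau e φ ((rTr g ∘ₗ LinearMap.mulLeft R x) ∘ₗ (p k ∘ₗ q k)) := by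
          refine Finset.sum_congr rfl fun k _ => ?_
          rw [tau_cyclic e φ hφ e φ hφ]
          simp [LinearMap.comp_assoc]
      _ = ∑ j, φ j ((rTr g ∘ₗ LinearMap.mulLeft R x) (∑ k, p k (q k (e j)))) := by
          simp only [tau]
          rw [Finset.sum_comm]
          simp [map_sum]
      _ = T e φ g x * h 1 := by
          simp [q, p, sum_lTr_lTr e φ hφ, T, map_smul, mul_comm, Finset.mul_sum]
  rw [← hφ (rTr (T e φ g) x)]
  conv_rhs => rw [← hφ (1 : C), Finset.smul_sum]
  refine Finset.sum_congr rfl fun k _ => ?_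
  rw [key, smul_smul]

/-- the Larson–Sweedler identity -/
theorem sum_T_eq_counit (hφ : ∀ x, ∑ k, φ k x • e k = x) (c : C) :
    ∑ i, T e φ (φ i) (antipode R (e i) * c) = counit c := by
  let G : C ⊗[R] C →ₗ[R] C :=
    LinearMap.mulRight R c ∘ₗ LinearMap.mul' R C ∘ₗ (antipode R).lTensor C
  have hG : ∀ y, G (comul y) = counit (R := R) y • c := by
    intro y
    simp [G, Algebra.smul_def, HopfAlgebra.mul_antipode_lTensor_comul_apply]
  calc ∑ i, T e φ (φ i) (antipode R (e i) * c)
      = tau (fun p : ι × ι => e p.1 ⊗ₜ[R] e p.2) (tmulDual φ φ) (Coalgebra.comul ∘ₗ G) := by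
        simp only [tau, Fintype.sum_prod_type]
        rw [Finset.sum_comm]
        refine Finset.sum_congr rfl fun i _ => ?_
        simp only [T, LinearMap.sum_apply, LinearMap.comp_apply]
        refine Finset.sum_congr rfl fun k _ => ?_
        simp only [LinearMap.mulRight_apply, G, LinearMap.lTensor_tmul, LinearMap.comp_apply,
          LinearMap.mul'_apply]
        rw [show e k * antipode R (e i) * c = antipode R (e i) * c * e k by ring]
        generalize antipode R (e i) * c * e k = z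
        rw [rTr_repr _ (ℛ R z), ← (ℛ R z).eq]
        simp [tmulDual, map_sum, mul_comm]
    _ = tau e φ (G ∘ₗ Coalgebra.comul) :=
        tau_cyclic _ _ (tmulDual_spec e φ hφ e φ hφ) e φ hφ G Coalgebra.comul
    _ = counit c := by
        simp only [tau, LinearMap.comp_apply, hG, map_smul, smul_eq_mul]
        conv_rhs => rw [← hφ c]
        simp [map_sum, mul_comm]

end H20Quot
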