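import Groth.Agent.H20Quot.Coaction

/-!
# The kernel of the projection to a subgroup is generated by invariant augmentation elements
-/

noncomputable section

open scoped TensorProduct
open Coalgebra HopfAlgebra

namespace H20Quot

variable {R : Type*} [CommRing R] {A C : Type*} [CommRing A] [HopfAlgebra R A]
  [CommRing C] [HopfAlgebra R C]

/-- a retraction onto the base of a faithfully flat finite projective algebra -/
theorem exists_linear_retraction {B A : Type*} [CommRing B] [CommRing A] [Algebra B A]
    [Module.Finite B A] [Module.Projective B A] [Module.FaithfullyFlat B A] :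
    ∃ θ : A →ₗ[B] B, θ 1 = 1 := by
  classical
  obtain ⟨n, e, φ, hφ⟩ := exists_dual_basis (R := B) (M := A)
  let J : Ideal B := LinearMap.range (LinearMap.applyₗ (R := B) (1 : A) : (A →ₗ[B] B) →ₗ[B] B)
  suffices h : J = ⊤ by
    obtain ⟨θ, hθ⟩ := (h.symm ▸ Submodule.mem_top : (1 : B) ∈ J)
    exact ⟨θ, hθ⟩
  by_contra hJ
  obtain ⟨m, hm, hJm⟩ := Ideal.exists_le_maximal J hJ
  refine Module.FaithfullyFlat.submodule_ne_top (M := A) hm (eq_top_iff.2 fun a _ => ?_)
  have : a = ∑ k, φ k 1 • (a * e k) := by
    simp only [← mul_smul_comm, ← Finset.mul_sum, hφ, mul_one]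
  rw [this]
  exact Submodule.sum_mem _ fun k _ =>
    Submodule.smul_mem_smul (hJm ⟨φ k, rfl⟩) Submodule.mem_top

/-- `Ker π` is generated by the invariants killed by the counit. -/
theorem ker_le_span_inv [Module.Finite R C] [Module.Projective R C] (π : A →ₐc[R] C)
    (hπ : Function.Surjective π) :
    RingHom.ker (π : A →ₐ[R] C) ≤ Ideal.span {b : A | b ∈ inv (rightCoaction (π : A →ₐ[R] C)) ∧
      Coalgebra.counit (R := R) b = 0} := by
  intro x hx
  set ρ := rightCoaction (π : A →ₐ[R] C)
  have hρ := isGalois_rightCoaction π hπ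
  obtain ⟨κ, _, y, f, L, hy, hL⟩ := hρ.exists_dual
  rw [← hy x]
  refine Submodule.sum_mem _ fun k _ => ?_
  rw [Subalgebra.smul_def, smul_eq_mul]
  refine Ideal.mul_mem_right _ _ (Ideal.subset_span ⟨(f k x).2, ?_⟩)
  -- `L k` is left `A`-linear
  have hlin : ∀ p w, L k (p ⊗ₜ[R] (1 : C) * w) = p * L k w := by
    intro p w
    obtain ⟨z, rfl⟩ := (IsGalois.galoisMap_bijective hρ).2 w
    induction z using TensorProduct.induction_on with
    | zero => simp
    | add u v hu hv => simp [mul_add, map_add, hu, hv]
    | tmul u v =>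
      rw [IsGalois.galoisMap_tmul, ← mul_assoc, Algebra.TensorProduct.tmul_mul_tmul, one_mul, hL, hL,
        mul_assoc]
  -- so `ε ∘ L k` factors through `ε ⊗ id`
  have hfac : ∀ w, counit (R := R) (L k w) = counit (R := R)
      (L k ((1 : A) ⊗ₜ[R] TensorProduct.lid R C ((Coalgebra.counit (R := R)).rTensor C w))) := by
    intro w
    induction w using TensorProduct.induction_on with
    | zero => simp
    | add u v hu hv => simp [map_add, TensorProduct.tmul_add, hu, hv]
    | tmul p c =>
      conv_lhs => rw [show p ⊗ₜ[R] c = p ⊗ₜ[R] (1 : C) * ((1 : A) ⊗ₜ[R] c) by simp, hlin,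
        Bialgebra.counit_mul]
      simp [TensorProduct.tmul_smul]
  have h1 : (TensorProduct.lid R C) ((Coalgebra.counit (R := R)).rTensor C (ρ x)) = π x := by
    simp only [ρ, rightCoaction_repr _ (ℛ R x), map_sum, LinearMap.rTensor_tmul,
      TensorProduct.lid_tmul]
    calc _ = (π : A →ₐ[R] C) (∑ i ∈ (ℛ R x).index, counit (R := R) ((ℛ R x).left i) •
          (ℛ R x).right i) := by simp [map_sum, map_smul]
      _ = π x := by rw [Coalgebra.sum_counit_smul]; rfl
  have h2 : (f k x : A) = L k (ρ x) := by
    have := hL k 1 x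
    rw [← Algebra.TensorProduct.one_def, one_mul, one_mul] at this
    exact this.symm
  have hx' : π x = 0 := hx
  rw [h2, hfac, h1, hx', TensorProduct.tmul_zero, map_zero, map_zero]

end H20Quot
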